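import Cfsg.Agent.Lib.Perm.OddTransposition.Line
import Cfsg.Agent.Lib.Components.SFT.Criterion
import Cfsg.Agent.S0206

/-!
# Reduction to a spanned set and the dihedral case

The subgroup `X` generated by a class and one partner, modulo its 2-core, is spanned by the image of
the class of the partner in `X`. Conversely a spanned group with a singleton class is dihedral.
-/

set_option autoImplicit false

namespace CfsgLib.Perm.OddTransposition

open Cfsg CfsgLib.Perm.RootInvolution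

variable {G : Type*} [Group G] [Finite G] {D : Set G}

section Map

variable {Q : Type*} [Group Q] (π : G →* Q) (hπ : IsPGroup 2 ↥π.ker)
include hπ

theorem commute_of_map (hD : IsOddTranspositionSet D) {a b : G} (ha : a ∈ D) (hb : b ∈ D)
    (h : Commute (π a) (π b)) : Commute a b := by
  by_contra hnc
  obtain ⟨-, -, hne, hodd⟩ := adj_of_not_commute hD ha hb hnc
  have hker : (a * b) ^ 2 ∈ π.ker := by
    rw [MonoidHom.mem_ker, pow_two, map_mul, map_mul, h.symm.mul_mul_mul_comm, ← map_mul, ← map_mul,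
      sq_one hD.1 ha, sq_one hD.1 hb, map_one, one_mul]
  obtain ⟨k, hk⟩ := hπ ⟨_, hker⟩
  have hk' : ((a * b) ^ 2) ^ 2 ^ k = 1 := by
    have := congrArg Subtype.val hk
    simpa using this
  rw [← pow_mul, ← pow_succ'] at hk'
  have h1 : orderOf (a * b) ∣ 1 :=
    Nat.Coprime.dvd_of_dvd_mul_right (Nat.Coprime.pow_right _ (Nat.coprime_two_right.mpr hodd))
      (show orderOf (a * b) ∣ 1 * 2 ^ (k + 1) by simpa using orderOf_dvd_of_pow_eq_one hk')
  rw [Nat.dvd_one, orderOf_eq_one_iff] at h1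
  exact hne (by rw [← mul_one a, ← sq_one hD.1 hb, ← mul_assoc, h1, one_mul])

theorem isOddTranspositionSet_map (hD : IsOddTranspositionSet D) (hs : Function.Surjective π)
    (hker : ∀ a ∈ D, π a ≠ 1) : IsOddTranspositionSet (π '' D) := by
  have hpair : ∀ a ∈ D, ∀ b ∈ D, Commute (π a) (π b) ∨ Odd (orderOf (π a * π b)) := by
    intro a ha b hb
    by_cases h : Commute a b
    · exact Or.inl (h.map π)
    · obtain ⟨-, -, -, hodd⟩ := adj_of_not_commute hD ha hb h
      exact Or.inr (hodd.of_dvd_nat (by rw [← map_mul]; exact orderOf_map_dvd π (a * b)))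
  refine ⟨⟨?_, ?_, ?_, ?_⟩, ?_⟩
  · rintro _ ⟨a, ha, rfl⟩
    exact Involution.Dihedral.orderOf_eq_two (by rw [← map_mul, sq_one hD.1 ha, map_one]) (hker a ha)
  · rw [← MonoidHom.map_closure, hD.1.generates, ← MonoidHom.range_eq_map,
      MonoidHom.range_eq_top.2 hs]
  · rintro _ ⟨a, ha, rfl⟩ g
    obtain ⟨g, rfl⟩ := hs g
    exact ⟨g * a * g⁻¹, hD.1.conj_mem a ha g, by rw [map_mul, map_mul, map_inv]⟩
  · rintro _ ⟨a, ha, rfl⟩ _ ⟨b, hb, rfl⟩
    rcases hpair a ha b hb with h | h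
    · exact Or.inl h.eq
    · exact Or.inr (Or.inl h)
  · rintro _ ⟨a, ha, rfl⟩ _ ⟨b, hb, rfl⟩ h4
    rcases hpair a ha b hb with h | h
    · have hsq : (π a * π b) ^ 2 = 1 := by
        rw [pow_two, h.symm.mul_mul_mul_comm, ← map_mul, ← map_mul, sq_one hD.1 ha,
          sq_one hD.1 hb, map_one, one_mul]
      have := orderOf_dvd_of_pow_eq_one hsq
      rw [h4] at this
      norm_num at this
    · rw [h4] at h
      exact absurd h (by decide)

end Map

/-- The spanned group attached to a class and a partner. -/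
theorem exists_spanned (hD : IsOddTranspositionSet D) {d x : G} (hd : d ∈ D)
    (hx : x ∈ oddPartners D d) :
    ∃ (E : Set (↥(Subgroup.closure (sameCommutingClass D d ∪ {x})) ⧸
        Cfsg.pCore 2 ↥(Subgroup.closure (sameCommutingClass D d ∪ {x})))) (d' x' : _),
      Spanned E d' x' ∧ ∀ a ∈ E, ∀ b ∈ E, IsConj a b := by
  obtain ⟨hxD, hdx⟩ := (mem_oddPartners_iff hD hd).1 hx
  set X := Subgroup.closure (sameCommutingClass D d ∪ {x}) with hX
  set xX : ↥X := ⟨x, Subgroup.subset_closure (Or.inr rfl)⟩ with hxX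
  set dX : ↥X := ⟨d, Subgroup.subset_closure (Or.inl ⟨hd, rfl⟩)⟩ with hdX
  have hXi : ∀ e ∈ sameCommutingClass D d, e ∈ X := fun e he =>
    Subgroup.subset_closure (Or.inl he)
  -- the class of `x` in `X`
  set D' : Set ↥X := {y | IsConj xX y} with hD'
  have hmemD : ∀ y ∈ D', (y : G) ∈ D := by
    intro y hy
    obtain ⟨g, hg⟩ := isConj_iff.1 hy
    rw [← hg]
    exact hD.1.conj_mem x hxD g
  have hEmem : ∀ e (he : e ∈ sameCommutingClass D d), (⟨e, hXi e he⟩ : ↥X) ∈ D' := by
    intro e he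
    have hne : ¬ Commute x e := fun hc => hdx ((Same.iff he.2 hxD).2 hc).symm
    obtain ⟨-, -, -, hodd⟩ := adj_of_not_commute hD hxD he.1 hne
    obtain ⟨k, hk, hke⟩ :=
      Involution.Dihedral.exists_conj_of_odd (hD.1.orderOf_eq x hxD) (hD.1.orderOf_eq e he.1) hodd
    have hkX : k ∈ X := by
      obtain ⟨i, rfl⟩ := hk
      exact zpow_mem (mul_mem xX.2 (hXi e he)) i
    exact isConj_iff.2 ⟨⟨k, hkX⟩, Subtype.ext hke⟩
  have hgenD : Subgroup.closure D' = ⊤ := by
    rw [eq_top_iff, ← Subgroup.closure_closure_coe_preimage (k := sameCommutingClass D d ∪ {x}),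
      Subgroup.closure_le]
    rintro ⟨y, hy⟩ (hy' | hy')
    · exact Subgroup.subset_closure (hEmem y hy')
    · exact Subgroup.subset_closure (show IsConj xX ⟨y, hy⟩ by
        rw [show (⟨y, hy⟩ : ↥X) = xX from Subtype.ext hy'])
  have hcoe : ∀ a b : ↥X, Commute a b ↔ Commute (a : G) (b : G) := fun a b =>
    ⟨fun h => h.map X.subtype, fun h => Subtype.ext h.eq⟩
  have hOD : IsOddTranspositionSet D' := by
    refine ⟨⟨fun y hy => by rw [← Subgroup.orderOf_coe]; exact hD.1.orderOf_eq _ (hmemD y hy), hgenD,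
      fun y hy g => hy.trans (isConj_iff.2 ⟨g, rfl⟩), fun a ha b hb => ?_⟩, fun a ha b hb => ?_⟩
    · by_cases h : Commute (a : G) (b : G)
      · exact Or.inl ((hcoe a b).2 h).eq
      · obtain ⟨-, -, -, hodd⟩ := adj_of_not_commute hD (hmemD a ha) (hmemD b hb) h
        exact Or.inr (Or.inl (by rwa [← Subgroup.orderOf_coe, Subgroup.coe_mul]))
    · rw [← Subgroup.orderOf_coe, Subgroup.coe_mul]
      exact hD.2 _ (hmemD a ha) _ (hmemD b hb)
  have hdD' : dX ∈ D' := hEmem d ⟨hd, rfl⟩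
  have hxD' : xX ∈ D' := IsConj.refl xX
  set π := QuotientGroup.mk' (Cfsg.pCore 2 ↥X) with hπ
  have hker : IsPGroup 2 ↥π.ker := by
    rw [hπ, QuotientGroup.ker_mk']; exact Solvable.Cores.isPGroup_pCore 2
  have hlift : ∀ a ∈ D', ∀ b ∈ D', Commute (π a) (π b) → Commute a b := fun a ha b hb h =>
    commute_of_map π hker hOD ha hb h
  have hdxX : ¬ Commute dX xX := fun h => hdx ((hcoe _ _).1 h)
  have hne1 : ∀ a ∈ D', π a ≠ 1 := by
    intro a ha h1
    refine hdxX (hlift _ hdD' _ hxD' ?_)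
    have hx1 : π xX = 1 := by
      obtain ⟨g, rfl⟩ := isConj_iff.1 ha
      rw [map_mul, map_mul, map_inv, conj_eq_one_iff] at h1
      exact h1
    rw [hx1]
    exact Commute.one_right _
  haveI : Fact (Nat.Prime 2) := ⟨Nat.prime_two⟩
  refine ⟨π '' D', π dX, π xX, ⟨isOddTranspositionSet_map π hker hOD (QuotientGroup.mk'_surjective _) hne1,
    Components.SFT.pCore_quotient_eq_bot 2 ↥X, ⟨dX, hdD', rfl⟩, ⟨xX, hxD', rfl⟩,
    fun h => hdxX (hlift _ hdD' _ hxD' h), ?_⟩, ?_⟩
  · have hsub : ∀ e (he : e ∈ sameCommutingClass D d),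
        π ⟨e, hXi e he⟩ ∈ sameCommutingClass (π '' D') (π dX) := by
      intro e he
      refine ⟨⟨_, hEmem e he, rfl⟩, ?_⟩
      refine same_iff.2 ?_
      rintro _ ⟨f, hf, rfl⟩
      constructor <;> intro h
      · exact ((hcoe f ⟨e, hXi e he⟩).2 ((Same.iff he.2 (hmemD f hf)).1
          ((hcoe f dX).1 (hlift _ hf _ hdD' h)))).map π
      · exact ((hcoe f dX).2 ((Same.iff he.2 (hmemD f hf)).2
          ((hcoe f ⟨e, hXi e he⟩).1 (hlift _ hf _ (hEmem e he) h)))).map π
    rw [eq_top_iff, ← MonoidHom.range_eq_top.2 (QuotientGroup.mk'_surjective (Cfsg.pCore 2 ↥X)),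
      MonoidHom.range_eq_map,
      ← Subgroup.closure_closure_coe_preimage (k := sameCommutingClass D d ∪ {x}),
      MonoidHom.map_closure]
    refine Subgroup.closure_mono ?_
    rintro _ ⟨⟨y, hy⟩, hy' | hy', rfl⟩
    · exact Or.inl (hsub y hy')
    · exact Or.inr (congrArg π (Subtype.ext hy'))
  · rintro _ ⟨a, ha, rfl⟩ _ ⟨b, hb, rfl⟩
    exact π.map_isConj (ha.symm.trans hb)

/-- A spanned group whose class is a singleton is dihedral. -/
theorem Spanned.dihedral {d x : G} (h : Spanned D d x)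
    (h1 : ∀ a ∈ sameCommutingClass D d, a = d) :
    Nonempty (G ≃* DihedralGroup (orderOf (d * x))) := by
  have htop : Subgroup.closure ({d, x} : Set G) = ⊤ := by
    rw [eq_top_iff, ← h.gen]
    refine Subgroup.closure_mono ?_
    rintro y (hy | hy)
    · exact Or.inl (h1 y hy)
    · exact Or.inr hy
  obtain ⟨e⟩ := Cfsg.Agent.S0206.result d x (h.odd.1.orderOf_eq d h.left)
    (h.odd.1.orderOf_eq x h.right) fun e => h.not_comm (e ▸ Commute.refl d)
  exact ⟨(Subgroup.topEquiv.symm.trans (MulEquiv.subgroupCongr htop.symm)).trans e⟩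

end CfsgLib.Perm.OddTransposition
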