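import Cfsg.Agent.Lib.Perm.OddTransposition.Unitary
import Cfsg.Agent.Lib.Perm.OddTransposition.Reduce
import Cfsg.Agent.Lib.Perm.RootInvolutionQuotient
import Cfsg.Agent.Lib.KnownA.SuzukiMultiplier
import Cfsg.Agent.S0102
import Cfsg.Agent.S0262

/-!
# The group generated by a class and one partner

A spanned set forming one class with a class of at least two members has a disconnected commuting
graph whose components are the classes. Its group is perfect; modulo the centre it is `L₂(q)`,
`Sz(q)` or `U₃(q)` by the structure theorem, the unitary case is impossible and the centre is trivial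
because the Sylow subgroups of odd order of the other two are cyclic.
-/

set_option autoImplicit false

namespace CfsgLib.Perm.OddTransposition

open Cfsg CfsgLib.Perm.RootInvolution

universe u

variable {G : Type u} [Group G] [Finite G] {D : Set G} {d x : G}

/-- Commuting members have the same class. -/
theorem Spanned.same_of_commute (h : Spanned D d x) (hcl : ∀ a ∈ D, ∀ b ∈ D, IsConj a b)
    {a : G} (ha : a ∈ sameCommutingClass D d) (had : a ≠ d) {f p : G} (hf : f ∈ D) (hp : p ∈ D)
    (hc : Commute f p) : Same D p f := by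
  obtain ⟨g, rfl⟩ := isConj_iff.1 (hcl d h.left p hp)
  have hc' : Commute (g⁻¹ * f * g) d := by
    simpa [mul_assoc] using hc.conj g⁻¹
  have hf' : g⁻¹ * f * g ∈ D := by simpa using h.odd.1.conj_mem f hf g⁻¹
  have := Same.conj h.odd.1 (h.mem_class_of_commute ha ⟨h.left, rfl⟩ had hf' hc').2 g
  rwa [show g * (g⁻¹ * f * g) * g⁻¹ = f by group] at this

theorem Spanned.not_connected (h : Spanned D d x) (hcl : ∀ a ∈ D, ∀ b ∈ D, IsConj a b)
    {a : G} (ha : a ∈ sameCommutingClass D d) (had : a ≠ d) :
    ¬ IsConnectedSet (CommAdj D) D := by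
  intro hcon
  have key : ∀ p, Relation.ReflTransGen (CommAdj D) d p → p ∈ sameCommutingClass D d := by
    intro p hp
    induction hp with
    | refl => exact ⟨h.left, rfl⟩
    | tail _ hadj ih =>
      obtain ⟨hb, hc, -, hcomm⟩ := hadj
      exact ⟨hc, (ih.2.trans (h.same_of_commute hcl ha had hc hb (Commute.symm hcomm)) : Same D d _)⟩
  exact h.not_comm (class_commute ⟨h.left, rfl⟩ (key x (hcon d h.left x h.right)))

theorem Spanned.perfect (h : Spanned D d x) (hcl : ∀ a ∈ D, ∀ b ∈ D, IsConj a b)
    {a : G} (ha : a ∈ sameCommutingClass D d) (had : a ≠ d) : commutator G = ⊤ := by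
  have key : ∀ p ∈ D, (Abelianization.of p : Abelianization G) = Abelianization.of d := by
    intro p hp
    obtain ⟨g, rfl⟩ := isConj_iff.1 (hcl d h.left p hp)
    rw [map_mul, map_mul, map_inv, mul_inv_cancel_comm]
  have hd1 : (Abelianization.of d : Abelianization G) = 1 := by
    have h2 := key _ (h.mul_mem_class ha ⟨h.left, rfl⟩ had).1
    rw [map_mul, key a ha.1] at h2
    exact mul_eq_left.1 h2
  rw [eq_top_iff, ← h.odd.1.generates, Subgroup.closure_le]
  intro p hp
  rw [SetLike.mem_coe, ← Abelianization.ker_of, MonoidHom.mem_ker, key p hp, hd1]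

/-- In a group with trivial 2-core the subgroup `twoZCore` is the centre. -/
theorem twoZCore_eq_center (hO : Cfsg.pCore 2 G = ⊥) : twoZCore G = Subgroup.center G := by
  ext g
  rw [twoZCore, Subgroup.mem_comap, Subgroup.mem_center_iff, Subgroup.mem_center_iff]
  constructor
  · intro hg y
    have h1 := hg (QuotientGroup.mk' _ y)
    rw [← map_mul, ← map_mul, QuotientGroup.mk'_apply, QuotientGroup.mk'_apply, QuotientGroup.eq,
      hO, Subgroup.mem_bot, inv_mul_eq_one] at h1
    exact h1
  · intro hg q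
    obtain ⟨y, rfl⟩ := QuotientGroup.mk'_surjective _ q
    rw [← map_mul, ← map_mul, hg y]

/-- A perfect group with trivial 2-core whose central quotient has cyclic Sylow subgroups of odd
order has trivial centre. -/
theorem center_eq_bot_of_cyclic (hO : Cfsg.pCore 2 G = ⊥) (hperf : commutator G = ⊤)
    (hcyc : ∀ (p : ℕ) [Fact p.Prime], p ≠ 2 →
      ∀ P : Sylow p (G ⧸ twoZCore G), IsCyclic (P : Subgroup (G ⧸ twoZCore G))) :
    Subgroup.center G = ⊥ := by
  by_contra hne
  have hone : Nat.card ↥(Subgroup.center G) ≠ 1 := fun e => hne (Subgroup.card_eq_one.1 e)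
  obtain ⟨p, hp, hdvd⟩ := Nat.exists_prime_and_dvd hone
  haveI := Fact.mk hp
  set σ := QuotientGroup.mk' (twoZCore G) with hσ
  have hker : σ.ker = Subgroup.center G := by
    rw [hσ, QuotientGroup.ker_mk', twoZCore_eq_center hO]
  rcases eq_or_ne p 2 with rfl | hp2
  · obtain ⟨z, hz⟩ := exists_prime_orderOf_dvd_card' 2 hdvd
    have hz2 : (z : G) * z = 1 := by
      rw [← pow_two, ← Subgroup.coe_pow, ← hz, pow_orderOf_eq_one, OneMemClass.coe_one]
    have hn : (Subgroup.zpowers (z : G)).Normal := ⟨fun y hy k => by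
      rwa [Subgroup.mem_center_iff.1 (Subgroup.zpowers_le.2 z.2 hy) k, mul_inv_cancel_right]⟩
    have h2 : IsPGroup 2 ↥(Subgroup.zpowers (z : G)) :=
      IsPGroup.of_card (n := 1) (by rw [Nat.card_zpowers, Subgroup.orderOf_coe, hz, pow_one])
    have h3 := Solvable.Cores.le_pCore (hn := hn) h2 (Subgroup.mem_zpowers _)
    rw [hO, Subgroup.mem_bot] at h3
    rw [← Subgroup.orderOf_coe, h3, orderOf_one] at hz
    exact absurd hz (by norm_num)
  · have hQ : commutator (G ⧸ twoZCore G) = ⊤ := by
      rw [commutator_def, ← MonoidHom.range_eq_top.2 (QuotientGroup.mk'_surjective (twoZCore G)),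
        MonoidHom.range_eq_map, ← Subgroup.map_commutator, ← commutator_def, hperf]
    refine Cfsg.Agent.S0102.result hQ (hcyc p hp2) σ (QuotientGroup.mk'_surjective _) hker.le hperf ?_
    rw [hker]
    exact hdvd

theorem isCyclic_sylow_of_surjective {A B : Type*} [Group A] [Finite A] [Group B] {p : ℕ}
    [Fact p.Prime] {f : A →* B} (hf : Function.Surjective f)
    (hA : ∀ P : Sylow p A, IsCyclic (P : Subgroup A)) (Q : Sylow p B) :
    IsCyclic (Q : Subgroup B) := by
  obtain ⟨P, rfl⟩ := Sylow.mapSurjective_surjective hf p Q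
  haveI := hA P
  show IsCyclic ((P : Subgroup A).map f)
  exact isCyclic_of_surjective (f.subgroupMap (P : Subgroup A)) (f.subgroupMap_surjective _)

/-- The structure of a spanned class with at least two members per class. -/
theorem Spanned.classify (hS : DisconnectedStructure.{u})
    (h : Spanned D d x) (hcl : ∀ a ∈ D, ∀ b ∈ D, IsConj a b)
    {a : G} (ha : a ∈ sameCommutingClass D d) (had : a ≠ d) :
    (∃ (F : Type) (_ : Field F) (_ : Fintype F), CharP F 2 ∧ 4 ≤ Fintype.card F ∧
      Nonempty (G ≃* Matrix.ProjectiveSpecialLinearGroup (Fin 2) F)) ∨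
    Cfsg.Lie.IsoSuzuki G := by
  haveI : Fact (Nat.Prime 2) := ⟨Nat.prime_two⟩
  have hprod := h.mul_mem_class ha ⟨h.left, rfl⟩ had
  have hDD : (D ∩ commutingProducts D).Nonempty :=
    ⟨a * d, hprod.1, a, ha.1, d, h.left, (class_commute ha ⟨h.left, rfl⟩).eq,
      ne_one h.odd.1 hprod.1, rfl⟩
  have hperf := h.perfect hcl ha had
  have hz : Subgroup.center G = ⊥ → Nonempty (G ⧸ twoZCore G ≃* G) := fun e =>
    ⟨(QuotientGroup.quotientMulEquivOfEq (by rw [twoZCore_eq_center h.core, e])).trans
      QuotientGroup.quotientBot⟩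
  rcases hS G D h.odd.1 hDD with hcon | ⟨F, iF, iF', hch, h4, ⟨e⟩⟩ | ⟨F, iF, iF', m, hm, hF, ⟨e⟩⟩ |
      ⟨F, iF, iF', q, hch, hF, h4, ⟨e⟩⟩
  · exact absurd hcon (h.not_connected hcl ha had)
  · haveI := hch
    obtain ⟨e'⟩ := hz (center_eq_bot_of_cyclic h.core hperf fun p hp hp2 P => by
      haveI := hp
      let f : Matrix.SpecialLinearGroup (Fin 2) F →* G ⧸ twoZCore G :=
        e.symm.toMonoidHom.comp
          (QuotientGroup.mk' (Subgroup.center (Matrix.SpecialLinearGroup (Fin 2) F)))
      exact isCyclic_sylow_of_surjective (f := f)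
        (e.symm.surjective.comp (QuotientGroup.mk'_surjective _))
        (fun R => Cfsg.Agent.S0262.result 2 p hp2 hp2 R) P)
    exact Or.inl ⟨F, iF, iF', hch, h4, ⟨e'.symm.trans e⟩⟩
  · obtain ⟨e'⟩ := hz (center_eq_bot_of_cyclic h.core hperf fun p hp hp2 P => by
      haveI := hp
      exact isCyclic_sylow_of_surjective (f := e.symm.toMonoidHom) e.symm.surjective
        (fun R => KnownA.SuzukiMultiplier.isCyclic_sylow
          (KnownB.Suzuki.params_of_card hm hF) hp2 R) P)
    exact Or.inr ⟨F, iF, iF', m, hm, hF, ⟨e'.symm.trans e⟩⟩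
  · exfalso
    haveI := hch
    haveI : Fact (Fintype.card F = q ^ 2) := ⟨hF⟩
    obtain ⟨θ, hθ, hconj⟩ := Classical.exists_frob hF
    haveI := KnownC.AutPSU.uctx (n := 3) hθ hconj le_rfl (by omega)
    set π := QuotientGroup.mk' (twoZCore G) with hπ
    set φ : G →* KnownC.AutPSU.PG (Classical.stdHerm θ 3) :=
      (e.trans (KnownC.AutPSU.pgEquiv (n := 3) (F := F) (q := q) hθ)).toMonoidHom.comp π with hφ
    have hφs : Function.Surjective φ := by
      rw [hφ, MonoidHom.coe_comp]
      exact (MulEquiv.surjective _).comp (QuotientGroup.mk'_surjective _)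
    have hker : ∀ g, φ g = 1 → g ∈ Subgroup.center G := fun g hg => by
      rw [← twoZCore_eq_center h.core, ← QuotientGroup.eq_one_iff]
      exact (e.trans (KnownC.AutPSU.pgEquiv (n := 3) (F := F) (q := q) hθ)).injective
        (by rw [map_one]; exact hg)
    have hdx : ¬ Commute (φ d) (φ x) := by
      intro hc
      obtain ⟨-, -, -, hodd⟩ := adj_of_not_commute h.odd h.left h.right h.not_comm
      have hsq : (d * x) ^ 2 ∈ Subgroup.center G := hker _ (by
        rw [pow_two, map_mul, map_mul, hc.symm.mul_mul_mul_comm, ← map_mul, ← map_mul,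
          sq_one h.odd.1 h.left, sq_one h.odd.1 h.right, map_one, one_mul])
      -- an element centralised and inverted by `d`, of odd order
      have h1 := Subgroup.mem_center_iff.1 hsq d
      have hinv : d * (d * x) ^ 2 * d⁻¹ = ((d * x) ^ 2)⁻¹ :=
        Involution.Dihedral.conj_pow (Involution.Dihedral.conj_mul_left
          (h.odd.1.orderOf_eq d h.left) (h.odd.1.orderOf_eq x h.right)) 2
      rw [h1, mul_inv_cancel_right, eq_inv_iff_mul_eq_one, ← pow_add] at hinv
      have h3 : orderOf (d * x) ∣ 1 := Nat.Coprime.dvd_of_dvd_mul_right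
        (Nat.Coprime.pow_right 2 (Nat.coprime_two_right.mpr hodd))
        (show orderOf (d * x) ∣ 1 * 2 ^ 2 by simpa using orderOf_dvd_of_pow_eq_one hinv)
      rw [Nat.dvd_one, orderOf_eq_one_iff] at h3
      exact h.not_comm (by
        rw [show x = d from by rw [← cancel h.odd.1 h.left x, h3, mul_one]])
    have hd3 : Module.finrank F (Fin 3 → F) = 3 := Module.finrank_fin_fun F
    refine Unitary.closure_ne_top (B := Classical.stdHerm θ 3) hd3 (φ '' sameCommutingClass D d) ?_ ?_
      (d := φ d) (x := φ x) ⟨d, ⟨h.left, rfl⟩, rfl⟩ ?_ hdx ?_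
    · rintro _ ⟨y, hy, rfl⟩
      rw [← map_mul, sq_one h.odd.1 hy.1, map_one]
    · rintro _ ⟨y, hy, rfl⟩ _ ⟨y', hy', rfl⟩
      exact (class_commute hy hy').map φ
    · rw [← map_mul, sq_one h.odd.1 h.right, map_one]
    · rw [← Set.image_singleton, ← Set.image_union, ← MonoidHom.map_closure, h.gen,
        ← MonoidHom.range_eq_map, MonoidHom.range_eq_top.2 hφs]

/-- Statement S5051 modulo the structure of disconnected root involution groups. -/
theorem spanned_quotient (hS : DisconnectedStructure.{u})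
    (hD : IsOddTranspositionSet D) (hd : d ∈ D) (hx : x ∈ oddPartners D d) :
    (∃ (F : Type) (_ : Field F) (_ : Fintype F), CharP F 2 ∧ 4 ≤ Fintype.card F ∧
      Nonempty ((↥(Subgroup.closure (sameCommutingClass D d ∪ {x})) ⧸
        Cfsg.pCore 2 ↥(Subgroup.closure (sameCommutingClass D d ∪ {x}))) ≃*
          Matrix.ProjectiveSpecialLinearGroup (Fin 2) F)) ∨
    Cfsg.Lie.IsoSuzuki (↥(Subgroup.closure (sameCommutingClass D d ∪ {x})) ⧸
        Cfsg.pCore 2 ↥(Subgroup.closure (sameCommutingClass D d ∪ {x}))) ∨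
    (∃ n : ℕ, Nonempty ((↥(Subgroup.closure (sameCommutingClass D d ∪ {x})) ⧸
        Cfsg.pCore 2 ↥(Subgroup.closure (sameCommutingClass D d ∪ {x}))) ≃* DihedralGroup n)) := by
  obtain ⟨E, d', x', h, hcl⟩ := exists_spanned hD hd hx
  by_cases h1 : ∀ a ∈ sameCommutingClass E d', a = d'
  · exact Or.inr (Or.inr ⟨_, h.dihedral h1⟩)
  · push Not at h1
    obtain ⟨a, ha, had⟩ := h1
    exact (h.classify hS hcl ha had).imp id Or.inl

end CfsgLib.Perm.OddTransposition
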