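import Cfsg.Agent.Lib.Perm.OddTransposition.Basic
import Cfsg.Agent.Lib.Solvable.Cores

/-!
# Odd transpositions generated by a class and one further member

`Spanned D d x`: the group has no normal 2-subgroup and is generated by the class of `d` together
with one member `x` not commuting with `d`. Then the product of two members of the class is a
member, and the class is everything commuting with `d`.
-/

set_option autoImplicit false

namespace CfsgLib.Perm.OddTransposition

open Cfsg CfsgLib.Perm.RootInvolution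

variable {G : Type*} [Group G] {D : Set G} {d x : G}

/-- The standing hypothesis. -/
structure Spanned (D : Set G) (d x : G) : Prop where
  odd : IsOddTranspositionSet D
  core : Cfsg.pCore 2 G = ⊥
  left : d ∈ D
  right : x ∈ D
  not_comm : ¬ Commute d x
  gen : Subgroup.closure (sameCommutingClass D d ∪ {x}) = ⊤

/-- Products of two members of the class of `d` fixing the class of `x`. -/
def pairs (D : Set G) (d x : G) : Set G :=
  {g | ∃ a ∈ sameCommutingClass D d, ∃ b ∈ sameCommutingClass D d, g = a * b ∧ Fixes D g x}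

variable (hD : IsOddTranspositionSet D)
include hD

/-- The doubling step: a product of two members at `d` fixing the class of `p` also fixes the class
of the conjugate of `d` by `p`. -/
theorem step {a b p : G} (hd : d ∈ D) (ha : a ∈ sameCommutingClass D d)
    (hb : b ∈ sameCommutingClass D d) (hp : p ∈ D)
    (h : Commute p (a * b * p * (a * b)⁻¹)) : Fixes D (a * b) (p * d * p⁻¹) := by
  rcases eq_or_ne a b with rfl | hne
  · rw [sq_one hD.1 ha.1]
    exact Fixes.one hD.1 _
  have hwd : Commute (a * b) d :=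
    (class_commute ha ⟨hd, rfl⟩).mul_left (class_commute hb ⟨hd, rfl⟩)
  have hp2 := sq_one hD.1 hp
  have hw2 : a * b * (a * b) = 1 := by
    rw [(class_commute ha hb).symm.mul_mul_mul_comm, sq_one hD.1 ha.1, sq_one hD.1 hb.1, one_mul]
  set w := a * b with hw
  have hwi : w⁻¹ = w := inv_eq_of_mul_eq_one_left hw2
  have hp'D : w * p * w⁻¹ ∈ D := hD.1.conj_mem p hp w
  set p' := w * p * w⁻¹ with hp'
  have hwp' : w * p' * w⁻¹ = p := by
    rw [hp', hwi]
    calc w * (w * p * w) * w = w * w * p * (w * w) := by group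
      _ = p := by rw [hw2, one_mul, mul_one]
  have hvw : Commute (p * p') w := by
    refine (mul_inv_eq_iff_eq_mul.1 ?_ : w * (p * p') = p * p' * w).symm
    calc w * (p * p') * w⁻¹ = (w * p * w⁻¹) * (w * p' * w⁻¹) := by group
      _ = p' * p := by rw [← hp', hwp']
      _ = p * p' := h.eq.symm
  have hfix : Fixes D (p * p') d := by
    refine same_iff.2 fun f hf => ?_
    have hg : Commute (p * p') w := hvw
    have hf' : (p * p')⁻¹ * f * (p * p') ∈ D := by simpa using hD.1.conj_mem f hf (p * p')⁻¹
    rw [show Commute f (p * p' * d * (p * p')⁻¹) ↔ Commute ((p * p')⁻¹ * f * (p * p')) d from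
      ⟨fun hc => by simpa [mul_assoc] using hc.conj (p * p')⁻¹,
        fun hc => by simpa [mul_assoc] using hc.conj (p * p')⟩,
      ← commute_mul_iff hD ha hb hne hf', ← commute_mul_iff hD ha hb hne hf]
    have e : (p * p')⁻¹ * w * (p * p') = w := by rw [mul_assoc, ← hg.eq, inv_mul_cancel_left]
    constructor <;> intro hc
    · have := hc.conj (p * p')
      rw [show p * p' * w * (p * p')⁻¹ = w by rw [hg.eq, mul_inv_cancel_right]] at this
      simpa [mul_assoc] using this
    · have := hc.conj (p * p')⁻¹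
      rw [inv_inv, e] at this
      exact this
  have h1 := Same.conj hD.1 hfix p⁻¹
  rw [show p⁻¹ * (p * p' * d * (p * p')⁻¹) * p⁻¹⁻¹ = p' * d * p'⁻¹ by group,
    inv_inv, inv_eq hD.1 hp] at h1
  rw [Fixes, show w * (p * d * p⁻¹) * w⁻¹ = (w * p * w⁻¹) * (w * d * w⁻¹) * (w * p * w⁻¹)⁻¹ by group,
    show w * d * w⁻¹ = d by rw [hwd.eq, mul_inv_cancel_right], inv_eq hD.1 hp]
  exact h1

/-- A fixed class stays fixed after conjugating `d` into it. -/
theorem fixes_step {a b p : G} (hd : d ∈ D) (ha : a ∈ sameCommutingClass D d)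
    (hb : b ∈ sameCommutingClass D d) (hp : p ∈ D) (h : Fixes D (a * b) p) :
    Fixes D (a * b) (p * d * p⁻¹) :=
  step hD hd ha hb hp (Same.commute h (hD.1.conj_mem p hp _)).symm

/-- If `x` commutes with its conjugate, then its class is fixed. -/
theorem fixes_of_commute [Finite G] {a b : G} (hd : d ∈ D) (hx : x ∈ D) (hdx : ¬ Commute d x)
    (ha : a ∈ sameCommutingClass D d) (hb : b ∈ sameCommutingClass D d)
    (h : Commute x (a * b * x * (a * b)⁻¹)) : Fixes D (a * b) x := by
  obtain ⟨-, -, -, hodd⟩ := adj_of_not_commute hD hd hx hdx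
  have hk : d * (d * x) * d⁻¹ = (d * x)⁻¹ :=
    Involution.Dihedral.conj_mul_left (hD.1.orderOf_eq d hd) (hD.1.orderOf_eq x hx)
  have h0 : d * (d * x) = x := cancel hD.1 hd x
  set k := d * x with hkdef
  have hmem : ∀ t : ℕ, d * k ^ (2 ^ (t + 1)) ∈ D ∧ Fixes D (a * b) (d * k ^ (2 ^ (t + 1))) := by
    have next' : ∀ i : ℕ, d * k ^ i ∈ D →
        d * k ^ i * d * (d * k ^ i)⁻¹ = d * k ^ (2 * i) := fun i hi => by
      rw [inv_eq hD.1 hi, mul_assoc (d * k ^ i) d, cancel hD.1 hd, mul_assoc, ← pow_add, two_mul]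
    intro t
    induction t with
    | zero =>
      have e : x * d * x⁻¹ = d * k ^ (2 ^ (0 + 1)) := by
        have := next' 1 (by rw [pow_one, h0]; exact hx)
        rwa [pow_one, h0, mul_one] at this
      rw [← e]
      exact ⟨hD.1.conj_mem d hd x, step hD hd ha hb hx h⟩
    | succ t ih =>
      have e := next' _ ih.1
      rw [← pow_succ' 2 (t + 1)] at e
      rw [← e]
      exact ⟨hD.1.conj_mem d hd _, fixes_step hD hd ha hb ih.1 ih.2⟩
  have hpos : 0 < (orderOf k).totient := Nat.totient_pos.2 (orderOf_pos k)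
  obtain ⟨t, ht⟩ : ∃ t, (orderOf k).totient = t + 1 := ⟨_, (Nat.succ_pred_eq_of_pos hpos).symm⟩
  have hp : k ^ (2 ^ (t + 1)) = k := by
    conv_rhs => rw [← pow_one k]
    rw [pow_eq_pow_iff_modEq, ← ht]
    exact Nat.ModEq.pow_totient (Nat.coprime_two_left.mpr hodd)
  have h2 := (hmem t).2
  rwa [hp, h0] at h2

/-- The products fixing a class are sent into the other family by conjugation. -/
theorem conj_pair_mem {a c : G} (hd : d ∈ D) (hx : x ∈ D) (ha : a ∈ sameCommutingClass D d)
    (hc : c ∈ pairs D x d) :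
    a * c * a⁻¹ ∈ Subgroup.closure (pairs D d x) ⊔ Subgroup.closure (pairs D x d) := by
  obtain ⟨e, he, e', he', rfl, hfix⟩ := hc
  set u := e * e' with hu
  have hfa : Fixes D u a := hfix.congr hD.1 ha.2
  have hax : Fixes D u (a * x * a⁻¹) := fixes_step hD hx he he' ha.1 hfa
  have hu2 : u⁻¹ = u := by
    rw [hu, mul_inv_rev, inv_eq hD.1 he.1, inv_eq hD.1 he'.1, (class_commute he' he).eq]
  have hq : u * a * u⁻¹ * a ∈ pairs D d x := by
    refine ⟨u * a * u⁻¹, class_conj_mem hD.1 ha hfix, a, ha, rfl, ?_⟩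
    have ha' : a * a = 1 := sq_one hD.1 ha.1
    have hux : Fixes D u x := Fixes.of_commute hD.1
      ((class_commute he ⟨hx, rfl⟩).mul_left (class_commute he' ⟨hx, rfl⟩))
    have h1 : Fixes D (a * u⁻¹ * a⁻¹) x := by
      have := (hax.inv hD.1).conj hD.1 a
      rwa [show a * (a * x * a⁻¹) * a⁻¹ = (a * a) * x * (a * a)⁻¹ by group, ha', one_mul, inv_one,
        mul_one] at this
    have h2 := hux.mul hD.1 h1
    rwa [show u * (a * u⁻¹ * a⁻¹) = u * a * u⁻¹ * a by
      rw [inv_eq hD.1 ha.1]; group] at h2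
  have : a * u * a⁻¹ = u * (u * a * u⁻¹ * a) := by
    rw [inv_eq hD.1 ha.1, hu2, show u * (u * a * u * a) = (u * u) * a * u * a by group]
    nth_rewrite 2 [← hu2]
    rw [inv_mul_cancel, one_mul]
  rw [this]
  exact mul_mem (Subgroup.mem_sup_right (Subgroup.subset_closure ⟨e, he, e', he', hu, hfix⟩))
    (Subgroup.mem_sup_left (Subgroup.subset_closure hq))

/-- A member of the class conjugates the whole family into itself. -/
theorem conj_gen_mem {a g : G} (hd : d ∈ D) (hx : x ∈ D) (ha : a ∈ sameCommutingClass D d)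
    (hg : g ∈ pairs D d x ∪ pairs D x d) :
    a * g * a⁻¹ ∈ Subgroup.closure (pairs D d x) ⊔ Subgroup.closure (pairs D x d) := by
  rcases hg with hg | hg
  · obtain ⟨e, he, e', he', rfl, -⟩ := id hg
    rw [((class_commute ha he).mul_right (class_commute ha he')).eq, mul_inv_cancel_right]
    exact Subgroup.mem_sup_left (Subgroup.subset_closure hg)
  · exact conj_pair_mem hD hd hx ha hg

theorem conj_pairs {u g : G} (hu : u ∈ pairs D x d) (hd : d ∈ D) (hx : x ∈ D)
    (hg : g ∈ pairs D d x) : u * g * u⁻¹ ∈ pairs D d x := by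
  obtain ⟨c, hc, c', hc', rfl, hfix⟩ := hu
  obtain ⟨e, he, e', he', rfl, hgx⟩ := hg
  refine ⟨c * c' * e * (c * c')⁻¹, class_conj_mem hD.1 he hfix, c * c' * e' * (c * c')⁻¹,
    class_conj_mem hD.1 he' hfix, by group, ?_⟩
  have hux : Fixes D (c * c') x := Fixes.of_commute hD.1
    ((class_commute hc ⟨hx, rfl⟩).mul_left (class_commute hc' ⟨hx, rfl⟩))
  exact (hux.mul hD.1 hgx).mul hD.1 (hux.inv hD.1)

theorem isPGroup_pairs (d x : G) : IsPGroup 2 ↥(Subgroup.closure (pairs D d x)) := by
  have hcomm : ∀ g ∈ pairs D d x, ∀ g' ∈ pairs D d x, g * g' = g' * g := by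
    rintro _ ⟨a, ha, b, hb, rfl, -⟩ _ ⟨a', ha', b', hb', rfl, -⟩
    exact (((class_commute ha ha').mul_right (class_commute ha hb')).mul_left
      ((class_commute hb ha').mul_right (class_commute hb hb'))).eq
  have hsq : ∀ g ∈ Subgroup.closure (pairs D d x), g * g = 1 := by
    intro g hg
    induction hg using Subgroup.closure_induction with
    | mem y hy =>
      obtain ⟨a, ha, b, hb, rfl, -⟩ := hy
      rw [(class_commute ha hb).symm.mul_mul_mul_comm, sq_one hD.1 ha.1, sq_one hD.1 hb.1, one_mul]
    | one => rw [one_mul]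
    | mul y z hy hz ihy ihz =>
      have hyz : Commute z y := by
        have := Subgroup.isMulCommutative_closure hcomm
        exact congrArg Subtype.val (this.1.comm ⟨z, hz⟩ ⟨y, hy⟩)
      rw [hyz.mul_mul_mul_comm, ihy, ihz, one_mul]
    | inv y _ ih => rw [← mul_inv_rev, ih, inv_one]
  intro g
  refine ⟨1, Subtype.ext ?_⟩
  rw [pow_one, pow_two]
  exact hsq _ g.2

omit hD

variable [Finite G] (h : Spanned D d x)
include h

theorem Spanned.central_eq_one {g : G} (hsq : g * g = 1)
    (hE : ∀ a ∈ sameCommutingClass D d, Commute g a) (hx : Commute g x) : g = 1 := by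
  have hz : g ∈ Subgroup.center G := by
    rw [Subgroup.mem_center_iff]
    intro t
    have ht : t ∈ Subgroup.closure (sameCommutingClass D d ∪ {x}) := h.gen ▸ Subgroup.mem_top t
    have hle : Subgroup.closure (sameCommutingClass D d ∪ {x}) ≤
        Subgroup.centralizer ({g} : Set G) := by
      rw [Subgroup.closure_le]
      rintro y (hy | hy)
      · exact Subgroup.mem_centralizer_singleton_iff.mpr (hE y hy).symm.eq
      · rw [Set.mem_singleton_iff.1 hy]
        exact Subgroup.mem_centralizer_singleton_iff.mpr hx.symm.eq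
    exact Subgroup.mem_centralizer_singleton_iff.mp (hle ht)
  have hn : (Subgroup.zpowers g).Normal := ⟨fun y hy k => by
    rwa [Subgroup.mem_center_iff.1 (Subgroup.zpowers_le.2 hz hy) k, mul_inv_cancel_right]⟩
  have hp : IsPGroup 2 ↥(Subgroup.zpowers g) := by
    rintro ⟨y, i, rfl⟩
    refine ⟨1, Subtype.ext ?_⟩
    simp only [SubmonoidClass.coe_pow, OneMemClass.coe_one, pow_one, pow_two, MulMemClass.coe_mul]
    rw [← zpow_add, ← two_mul, zpow_mul, zpow_two, hsq, one_zpow]
  have := Solvable.Cores.le_pCore (hn := hn) hp (Subgroup.mem_zpowers g)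
  rwa [h.core, Subgroup.mem_bot] at this

theorem Spanned.no_common {f : G} (hf : f ∈ D) (h1 : Commute f d) : ¬ Commute f x := fun h2 =>
  ne_one h.odd.1 hf (h.central_eq_one (sq_one h.odd.1 hf) (fun _ ha => (Same.iff ha.2 hf).1 h1) h2)

/-- No product of two members of the class fixes the class of `x`. -/
theorem Spanned.eq_of_fixes {a b : G} (ha : a ∈ sameCommutingClass D d)
    (hb : b ∈ sameCommutingClass D d) (hfix : Fixes D (a * b) x) : a = b := by
  have hD := h.odd
  set U := Subgroup.closure (pairs D d x) ⊔ Subgroup.closure (pairs D x d) with hU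
  have hgen : ∀ {g : G}, g * g = 1 →
      (∀ y ∈ pairs D d x ∪ pairs D x d, g * y * g⁻¹ ∈ U) → g ∈ Subgroup.normalizer (U : Set G) := by
    intro g hg hconj
    have hle : ∀ y ∈ U, g * y * g⁻¹ ∈ U := by
      intro y hy
      have : U ≤ U.comap (MulAut.conj g).toMonoidHom := by
        conv_lhs => rw [hU, ← Subgroup.closure_union]
        rw [Subgroup.closure_le]
        exact fun z hz => hconj z hz
      exact this hy
    rw [Subgroup.mem_normalizer_iff]
    refine fun y => ⟨hle y, fun hy => ?_⟩
    have hgi : g⁻¹ = g := inv_eq_of_mul_eq_one_left hg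
    have := hle _ hy
    rwa [hgi, show g * (g * y * g) * g = (g * g) * y * (g * g) by group, hg, one_mul, mul_one] at this
  have hn : U.Normal := by
    rw [← Subgroup.normalizer_eq_top_iff, eq_top_iff, ← h.gen, Subgroup.closure_le]
    rintro g (hg | hg)
    · exact hgen (sq_one hD.1 hg.1) fun y hy => conj_gen_mem hD h.left h.right hg hy
    · rw [Set.mem_singleton_iff.1 hg]
      refine hgen (sq_one hD.1 h.right) fun y hy => ?_
      have := conj_gen_mem hD h.right h.left (a := x) ⟨h.right, rfl⟩ (Or.symm hy)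
      rwa [hU, sup_comm]
  have hp : IsPGroup 2 ↥U := by
    refine IsPGroup.to_sup_of_normal_left' (isPGroup_pairs hD d x) (isPGroup_pairs hD x d) ?_
    rw [Subgroup.closure_le]
    intro u hu
    rw [SetLike.mem_coe, Subgroup.mem_normalizer_iff]
    have hle : ∀ v ∈ pairs D x d, ∀ y ∈ Subgroup.closure (pairs D d x),
        v * y * v⁻¹ ∈ Subgroup.closure (pairs D d x) := by
      intro v hv y hy
      have : Subgroup.closure (pairs D d x) ≤
          (Subgroup.closure (pairs D d x)).comap (MulAut.conj v).toMonoidHom := by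
        rw [Subgroup.closure_le]
        exact fun z hz => Subgroup.subset_closure (conj_pairs hD hv h.left h.right hz)
      exact this hy
    refine fun y => ⟨hle u hu y, fun hy => ?_⟩
    obtain ⟨c, hc, c', hc', rfl, -⟩ := id hu
    have hui : (c * c')⁻¹ = c * c' := by
      rw [mul_inv_rev, inv_eq hD.1 hc.1, inv_eq hD.1 hc'.1, (class_commute hc' hc).eq]
    have hu2 : c * c' * (c * c') = 1 := by nth_rewrite 1 [← hui]; exact inv_mul_cancel _
    have := hle _ hu _ hy
    rwa [hui, show c * c' * (c * c' * y * (c * c')) * (c * c') =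
      (c * c' * (c * c')) * y * (c * c' * (c * c')) by group, hu2, one_mul, mul_one] at this
  have hmem : a * b ∈ U :=
    Subgroup.mem_sup_left (Subgroup.subset_closure ⟨a, ha, b, hb, rfl, hfix⟩)
  have h1 := Solvable.Cores.le_pCore (hn := hn) hp hmem
  rw [h.core, Subgroup.mem_bot] at h1
  rw [← mul_one a, ← sq_one hD.1 hb.1, ← mul_assoc, h1, one_mul]

theorem Spanned.not_commute_conj {a b : G} (ha : a ∈ sameCommutingClass D d)
    (hb : b ∈ sameCommutingClass D d) (hne : a ≠ b) :
    ¬ Commute x (a * b * x * (a * b)⁻¹) := fun hc =>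
  hne (h.eq_of_fixes ha hb (fixes_of_commute h.odd h.left h.right h.not_comm ha hb hc))

/-- If `y` commutes with `d`, `a` is in the class of `d`, and `x` does not commute with its conjugate
by `a * y`, then `a * y` is a member. -/
theorem Spanned.mul_mem_of_not_commute {a y : G} (ha : a ∈ sameCommutingClass D d) (hy : y ∈ D)
    (hyd : Commute y d) (hne : a ≠ y) (hc : ¬ Commute x (a * y * x * (a * y)⁻¹)) : a * y ∈ D := by
  have hD := h.odd
  have hya : Commute a y := ((Same.iff ha.2 hy).1 hyd).symm
  have hw : a * y * (a * y) = 1 := by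
    rw [hya.symm.mul_mul_mul_comm, sq_one hD.1 ha.1, sq_one hD.1 hy, one_mul]
  obtain ⟨m, hm, hmx, -, -, hswap⟩ := exists_middle hD h.right (hD.1.conj_mem x h.right _) hc
  have hwm : Commute (a * y) m := hswap _ hw rfl
  have hma : Commute m a := commute_of_commute_mul hD ha.1 hy hm hya hne hwm.symm
  have hmd : Commute m d := (Same.iff ha.2 hm).2 hma
  have hE : ∀ e ∈ sameCommutingClass D d, Commute (a * y * m) e := fun e he =>
    ((class_commute ha he).mul_left ((Same.iff he.2 hy).1 hyd)).mul_left ((Same.iff he.2 hm).1 hmd)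
  have hg2 : a * y * m * (a * y * m) = 1 := by
    rw [hwm.symm.mul_mul_mul_comm, hw, sq_one hD.1 hm, one_mul]
  have hgx : Commute (a * y * m) x := by
    refine mul_inv_eq_iff_eq_mul.1 ?_
    calc a * y * m * x * (a * y * m)⁻¹ = a * y * (m * x * m⁻¹) * (a * y)⁻¹ := by group
      _ = (a * y * (a * y)) * x * (a * y * (a * y))⁻¹ := by rw [hmx]; group
      _ = x := by rw [hw, one_mul, inv_one, mul_one]
  have h1 := h.central_eq_one hg2 hE hgx
  have : a * y = m := by rw [← inv_eq hD.1 hm, ← eq_inv_of_mul_eq_one_left h1]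
  rw [this]
  exact hm

/-- The product of two members of the class is a member of the class. -/
theorem Spanned.mul_mem_class {a b : G} (ha : a ∈ sameCommutingClass D d)
    (hb : b ∈ sameCommutingClass D d) (hne : a ≠ b) : a * b ∈ sameCommutingClass D d := by
  have hab := h.mul_mem_of_not_commute ha hb.1 (class_commute hb ⟨h.left, rfl⟩) hne
    (h.not_commute_conj ha hb hne)
  have ht : Tri D a b := ⟨ha.1, hb.1, class_commute ha hb, hab⟩
  exact ⟨hab, (ha.2.trans (Tri.same h.odd (ht.third' h.odd.1)).symm : Same D d (a * b))⟩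

/-- If the class is not a singleton, it consists of all members commuting with `d`. -/
theorem Spanned.mem_class_of_commute {a b y : G} (ha : a ∈ sameCommutingClass D d)
    (hb : b ∈ sameCommutingClass D d) (hne : a ≠ b) (hy : y ∈ D) (hyd : Commute y d) :
    y ∈ sameCommutingClass D d := by
  have hD := h.odd
  by_contra hyE
  have hay : a ≠ y := fun e => hyE (e ▸ ha)
  have hby : b ≠ y := fun e => hyE (e ▸ hb)
  have key : ∀ {a : G}, a ∈ sameCommutingClass D d → a ≠ y →
      ¬ Commute x (a * y * x * (a * y)⁻¹) → False := by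
    intro a ha hay hc
    have ht : Tri D a y := ⟨ha.1, hy, ((Same.iff ha.2 hy).1 hyd).symm,
      h.mul_mem_of_not_commute ha hy hyd hay hc⟩
    exact hyE ⟨hy, (ha.2.trans (Tri.same hD ht) : Same D d y)⟩
  by_cases hca : Commute x (a * y * x * (a * y)⁻¹)
  swap
  · exact key ha hay hca
  by_cases hcb : Commute x (b * y * x * (b * y)⁻¹)
  swap
  · exact key hb hby hcb
  have hya : Commute y a := (Same.iff ha.2 hy).1 hyd
  have hyb : Commute y b := (Same.iff hb.2 hy).1 hyd
  -- `a x a` and `b x b` both commute with `y x y`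
  have hconj : ∀ {a : G}, Commute y a → a ∈ D → Commute x (a * y * x * (a * y)⁻¹) →
      Commute (y * x * y⁻¹) (a * x * a⁻¹) := by
    intro a hya haD hc
    have := hc.conj y
    rwa [show y * (a * y * x * (a * y)⁻¹) * y⁻¹ = (y * a) * y * x * ((y * a) * y)⁻¹ by group,
      hya.eq, show a * y * y = a by rw [mul_assoc, sq_one hD.1 hy, mul_one]] at this
  have h1 := hconj hya ha.1 hca
  have h2 := hconj hyb hb.1 hcb
  have hnc : ¬ Commute (a * x * a⁻¹) (b * x * b⁻¹) := fun hc => by
    apply h.not_commute_conj ha hb hne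
    have := hc.conj a
    rwa [show a * (a * x * a⁻¹) * a⁻¹ = (a * a) * x * (a * a)⁻¹ by group, sq_one hD.1 ha.1,
      one_mul, inv_one, mul_one,
      show a * (b * x * b⁻¹) * a⁻¹ = a * b * x * (a * b)⁻¹ by group] at this
  obtain ⟨m, hm, -, -, hcm, hswap⟩ := exists_middle hD (hD.1.conj_mem x h.right a)
    (hD.1.conj_mem x h.right b) hnc
  have hab := class_commute ha hb
  have hwm : Commute (a * b) m := by
    refine hswap _ (by rw [hab.symm.mul_mul_mul_comm, sq_one hD.1 ha.1, sq_one hD.1 hb.1, one_mul]) ?_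
    rw [show a * b * (a * x * a⁻¹) * (a * b)⁻¹ = (a * b * a) * x * (a * b * a)⁻¹ by group,
      show a * b * a = b by rw [hab.eq, mul_assoc, sq_one hD.1 ha.1, mul_one]]
  have hmd : Commute m d := (commute_mul_iff hD ha hb hne hm).1 hwm.symm
  have hmy : Commute (y * x * y⁻¹) m := hcm _ h1 h2
  refine h.no_common (hD.1.conj_mem m hm y) ?_ ?_
  · have := hmd.conj y
    rwa [hyd.eq, mul_inv_cancel_right] at this
  · have := hmy.symm.conj y
    rwa [show y * (y * x * y⁻¹) * y⁻¹ = (y * y) * x * (y * y)⁻¹ by group, sq_one hD.1 hy, one_mul,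
      inv_one, mul_one] at this

end CfsgLib.Perm.OddTransposition
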