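import Cfsg.Prelude.Def_RootSubgroups
import Cfsg.Agent.Lib.Perm.RootInvolution
import Cfsg.Agent.Lib.Involution.Dihedral

/-!
# Odd transpositions: classes of equal centralisers and middle elements

`Same D p q` says that `p` and `q` commute with the same members of `D`; `Fixes D g p` says that
conjugation by `g` fixes the class of `p`.
-/

set_option autoImplicit false

namespace CfsgLib.Perm.OddTransposition

open Cfsg CfsgLib.Perm.RootInvolution

variable {G : Type*} [Group G] {D : Set G}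

/-- `p` and `q` commute with the same members. -/
def Same (D : Set G) (p q : G) : Prop := commutingMembers D p = commutingMembers D q

/-- `g` maps the class of `p` to itself. -/
def Fixes (D : Set G) (g p : G) : Prop := Same D (g * p * g⁻¹) p

theorem same_iff {p q : G} : Same D p q ↔ ∀ f ∈ D, Commute f p ↔ Commute f q := by
  constructor
  · intro h f hf
    exact ⟨fun h1 => (h.subset ⟨hf, h1.eq⟩).2, fun h1 => (h.symm.subset ⟨hf, h1.eq⟩).2⟩
  · intro h
    ext f
    exact and_congr_right fun hf => h f hf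

theorem Same.iff {p q f : G} (h : Same D p q) (hf : f ∈ D) : Commute f p ↔ Commute f q :=
  same_iff.1 h f hf

theorem Same.refl (D : Set G) (p : G) : Same D p p := Eq.refl _

theorem Same.commute {p q : G} (h : Same D p q) (hp : p ∈ D) : Commute p q :=
  (h.iff hp).1 (Commute.refl p)

theorem mem_class_iff {d a : G} : a ∈ sameCommutingClass D d ↔ a ∈ D ∧ Same D d a := Iff.rfl

theorem class_eq {p q : G} (h : Same D p q) : sameCommutingClass D p = sameCommutingClass D q := by
  ext a
  exact and_congr_right fun _ => by rw [show commutingMembers D p = commutingMembers D q from h]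

theorem class_commute {d a b : G} (ha : a ∈ sameCommutingClass D d)
    (hb : b ∈ sameCommutingClass D d) : Commute a b :=
  Same.commute (ha.2.symm.trans hb.2 : Same D a b) ha.1

section Conj

variable (hD : IsRootInvolutionSet D)
include hD

theorem conj_mem_iff (g : G) {p : G} : g * p * g⁻¹ ∈ D ↔ p ∈ D := by
  refine ⟨fun h => ?_, fun h => hD.conj_mem p h g⟩
  have := hD.conj_mem _ h g⁻¹
  simpa [mul_assoc] using this

theorem Same.conj {p q : G} (h : Same D p q) (g : G) : Same D (g * p * g⁻¹) (g * q * g⁻¹) := by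
  rw [same_iff]
  intro f hf
  have hf' : g⁻¹ * f * g ∈ D := by simpa using hD.conj_mem f hf g⁻¹
  have key : ∀ r : G, Commute f (g * r * g⁻¹) ↔ Commute (g⁻¹ * f * g) r := fun r => by
    constructor <;> intro hc
    · simpa [mul_assoc] using hc.conj g⁻¹
    · simpa [mul_assoc] using hc.conj g
  rw [key, key]
  exact h.iff hf'

theorem Fixes.of_commute {g p : G} (h : Commute g p) : Fixes D g p := by
  rw [Fixes, h.eq, mul_inv_cancel_right]
  exact Same.refl D p

theorem Fixes.one (p : G) : Fixes D 1 p := Fixes.of_commute hD (Commute.one_left p)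

theorem Fixes.mul {g k p : G} (hg : Fixes D g p) (hk : Fixes D k p) : Fixes D (g * k) p := by
  have h1 : Same D (g * (k * p * k⁻¹) * g⁻¹) (g * p * g⁻¹) := Same.conj hD hk g
  rw [Fixes, show g * k * p * (g * k)⁻¹ = g * (k * p * k⁻¹) * g⁻¹ by group]
  exact h1.trans hg

theorem Fixes.inv {g p : G} (hg : Fixes D g p) : Fixes D g⁻¹ p := by
  have h1 := Same.conj hD hg g⁻¹
  rw [show g⁻¹ * (g * p * g⁻¹) * g⁻¹⁻¹ = p by group] at h1
  exact h1.symm

theorem Fixes.congr {g p q : G} (hg : Fixes D g p) (h : Same D p q) : Fixes D g q :=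
  ((Same.conj hD h g).symm.trans hg).trans h

/-- Conjugation transports fixed classes. -/
theorem Fixes.conj {g p : G} (hg : Fixes D g p) (k : G) :
    Fixes D (k * g * k⁻¹) (k * p * k⁻¹) := by
  rw [Fixes, show k * g * k⁻¹ * (k * p * k⁻¹) * (k * g * k⁻¹)⁻¹ = k * (g * p * g⁻¹) * k⁻¹ by group]
  exact Same.conj hD hg k

theorem class_conj_mem {d a g : G} (ha : a ∈ sameCommutingClass D d) (hg : Fixes D g d) :
    g * a * g⁻¹ ∈ sameCommutingClass D d :=
  ⟨hD.conj_mem a ha.1 g, (hg.symm.trans (Same.conj hD ha.2 g) : Same D d (g * a * g⁻¹))⟩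

end Conj

variable (hD : IsOddTranspositionSet D)
include hD

theorem adj_of_not_commute {a b : G} (ha : a ∈ D) (hb : b ∈ D) (h : ¬ Commute a b) :
    OddAdj D a b := by
  have hne : a ≠ b := fun e => h (e ▸ Commute.refl a)
  rcases hD.1.pair a ha b hb with h1 | h1 | ⟨h1, -⟩
  · exact absurd h1 h
  · exact ⟨ha, hb, hne, h1⟩
  · exact absurd h1 (hD.2 a ha b hb)

theorem mem_oddPartners_iff {d x : G} (hd : d ∈ D) :
    x ∈ oddPartners D d ↔ x ∈ D ∧ ¬ Commute d x :=
  ⟨fun h => ⟨h.1, not_commute hD.1 ⟨hd, h.1, Ne.symm h.2.1, h.2.2⟩⟩, fun h => by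
    obtain ⟨-, -, hne, ho⟩ := adj_of_not_commute hD hd h.1 h.2
    exact ⟨h.1, hne.symm, ho⟩⟩

/-- Two members commuting with product in `D` commute with the same members. -/
theorem Tri.same {a x : G} (h : Tri D a x) : Same D a x := by
  have key : ∀ {a x f : G}, Tri D a x → f ∈ D → Commute f a → Commute f x := by
    intro a x f h hf hfa
    by_contra hfx
    exact not_commute_of_adj hD.1 h (adj_of_not_commute hD h.right hf fun e => hfx e.symm) hfa.symm
  exact same_iff.2 fun f hf => ⟨key h hf, key h.symm hf⟩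

/-- A member commuting with the product of two distinct commuting members commutes with both. -/
theorem commute_of_commute_mul {a b f : G} (ha : a ∈ D) (hb : b ∈ D) (hf : f ∈ D)
    (hab : Commute a b) (hne : a ≠ b) (h : Commute f (a * b)) : Commute f a := by
  by_contra hfa
  obtain ⟨-, -, -, hodd⟩ := adj_of_not_commute hD hf ha hfa
  have ha2 := sq_one hD.1 ha
  have hw2 : orderOf (a * b) = 2 := Involution.Dihedral.orderOf_eq_two
    (by rw [hab.symm.mul_mul_mul_comm, sq_one hD.1 ha, sq_one hD.1 hb, one_mul])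
    (fun e => hne (by rw [← mul_one a, ← sq_one hD.1 hb, ← mul_assoc, e, one_mul]))
  have haw : Commute a (a * b) := (Commute.refl a).mul_right hab
  have hfb : f * b = f * a * (a * b) := by rw [mul_assoc, cancel hD.1 ha]
  have hord : orderOf (f * b) = orderOf (f * a) * 2 := by
    rw [hfb, (h.mul_left haw).orderOf_mul_eq_mul_orderOf_of_coprime
      (by rw [hw2]; exact Nat.coprime_two_right.mpr hodd), hw2]
  have hnc : ¬ Commute f b := fun hfb' => hfa (by
    have := h.mul_right hfb'
    rwa [mul_assoc, sq_one hD.1 hb, mul_one] at this)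
  obtain ⟨-, -, -, hodd'⟩ := adj_of_not_commute hD hf hb hnc
  rw [hord] at hodd'
  exact Nat.not_odd_iff_even.mpr (even_two.mul_left _) hodd'

/-- The members commuting with the product of two members of a class are those of the class. -/
theorem commute_mul_iff {d a b f : G} (ha : a ∈ sameCommutingClass D d)
    (hb : b ∈ sameCommutingClass D d) (hne : a ≠ b) (hf : f ∈ D) :
    Commute f (a * b) ↔ Commute f d := by
  refine ⟨fun h => (Same.iff ha.2 hf).2
    (commute_of_commute_mul hD ha.1 hb.1 hf (class_commute ha hb) hne h), fun h => ?_⟩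
  exact ((Same.iff ha.2 hf).1 h).mul_right ((Same.iff hb.2 hf).1 h)

/-- The middle element of two members that do not commute. -/
theorem exists_middle {x x' : G} (hx : x ∈ D) (hx' : x' ∈ D) (hnc : ¬ Commute x x') :
    ∃ m ∈ D, m * x * m⁻¹ = x' ∧ ¬ Commute m x ∧ (∀ g, Commute g x → Commute g x' → Commute g m) ∧
      ∀ w, w * w = 1 → w * x * w⁻¹ = x' → Commute w m := by
  obtain ⟨-, -, hne, j, hj⟩ := adj_of_not_commute hD hx hx' hnc
  have hx2 := hD.1.orderOf_eq x hx
  have hk : x * (x * x') * x⁻¹ = (x * x')⁻¹ :=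
    Involution.Dihedral.conj_mul_left hx2 (hD.1.orderOf_eq x' hx')
  have hn : (x * x') ^ (2 * (j : ℤ) + 1) = 1 := by
    rw [show (2 * (j : ℤ) + 1) = ((2 * j + 1 : ℕ) : ℤ) by push_cast; ring, zpow_natCast, ← hj,
      pow_orderOf_eq_one]
  have hxk : x * (x * x') = x' := cancel hD.1 hx x'
  set k := x * x' with hkdef
  obtain ⟨m, hm⟩ : ∃ m, m = x * k ^ (-(j : ℤ)) := ⟨_, rfl⟩
  have hmD : m ∈ D := by
    have h1 := hD.1.conj_mem x hx (k ^ ((j : ℤ) * (j + 1)))
    rw [Involution.Dihedral.conj_zpow_reflection hk,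
      show -(2 * ((j : ℤ) * (j + 1))) = -(j : ℤ) + (2 * (j : ℤ) + 1) * (-j) by ring, zpow_add,
      zpow_mul k (2 * (j : ℤ) + 1), hn, one_zpow, mul_one, ← hm] at h1
    exact h1
  have hmx : m * x * m⁻¹ = x' := by
    have h2 := Involution.Dihedral.conj_zpow_reflection hk (-(j : ℤ))
    calc m * x * m⁻¹ = x * (k ^ (-(j : ℤ)) * x * (k ^ (-(j : ℤ)))⁻¹) * x⁻¹ := by rw [hm]; group
      _ = x * (x * k ^ (2 * (j : ℤ))) * x⁻¹ := by rw [h2]; congr 4; ring
      _ = k ^ (2 * (j : ℤ)) * x⁻¹ := by rw [cancel hD.1 hx]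
      _ = x' := by
        have h3 : k ^ (2 * (j : ℤ)) = k⁻¹ :=
          eq_inv_of_mul_eq_one_left (by rw [← zpow_add_one, hn])
        rw [h3, ← hk, mul_assoc, ← mul_inv_rev, sq_one hD.1 hx, inv_one, mul_one, hxk]
  refine ⟨m, hmD, hmx, fun hc => hne (by rw [← hmx, hc.eq, mul_inv_cancel_right]),
    fun g h1 h2 => hm ▸ h1.mul_right ((h1.mul_right h2).zpow_right _), fun w hw hwx => ?_⟩
  have hwi : w⁻¹ = w := inv_eq_of_mul_eq_one_left hw
  have hwx' : w * x' * w⁻¹ = x := by
    rw [← hwx, hwi]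
    calc w * (w * x * w) * w = w * w * x * (w * w) := by group
      _ = x := by rw [hw, one_mul, mul_one]
  have hwk : w * k * w⁻¹ = k⁻¹ := by
    rw [hkdef, mul_inv_rev, inv_eq hD.1 hx, inv_eq hD.1 hx']
    calc w * (x * x') * w⁻¹ = (w * x * w⁻¹) * (w * x' * w⁻¹) := by group
      _ = x' * x := by rw [hwx, hwx']
  have : w * m * w⁻¹ = m := by
    calc w * m * w⁻¹ = (w * x * w⁻¹) * (w * k ^ (-(j : ℤ)) * w⁻¹) := by rw [hm]; group
      _ = x * k * k ^ (j : ℤ) := by
        rw [hwx, Involution.Dihedral.conj_zpow hwk, neg_neg, ← hxk]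
      _ = m := by
        rw [hm, mul_assoc, ← zpow_one_add,
          show 1 + (j : ℤ) = -(j : ℤ) + (2 * (j : ℤ) + 1) by ring, zpow_add, hn, mul_one]
  exact mul_inv_eq_iff_eq_mul.1 this

/-- A member fixing a class centralises it. -/
theorem same_of_fixes {f p : G} (hf : f ∈ D) (hp : p ∈ D) (h : Fixes D f p) : Commute f p := by
  by_contra hnc
  obtain ⟨-, -, hne, hodd⟩ := adj_of_not_commute hD hf hp hnc
  have hc : Commute (f * p * f⁻¹) p :=
    Same.commute h (hD.1.conj_mem p hp f)
  have hsq : (f * p) ^ 2 * (f * p) ^ 2 = 1 := by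
    have e : (f * p) ^ 2 = (f * p * f⁻¹) * p := by rw [pow_two, inv_eq hD.1 hf]; group
    rw [e]
    calc f * p * f⁻¹ * p * (f * p * f⁻¹ * p)
        = f * p * f⁻¹ * (p * (f * p * f⁻¹)) * p := by group
      _ = f * p * f⁻¹ * ((f * p * f⁻¹) * p) * p := by rw [hc.eq]
      _ = f * (p * p) * f⁻¹ * (p * p) := by group
      _ = 1 := by rw [sq_one hD.1 hp]; group
  have hdvd : orderOf (f * p) ∣ 4 := orderOf_dvd_of_pow_eq_one (by rw [← hsq, ← pow_add])
  have h1 : orderOf (f * p) ∣ 1 :=
    (Nat.Coprime.dvd_of_dvd_mul_right (Nat.Coprime.pow_right 2 (Nat.coprime_two_right.mpr hodd))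
      (show orderOf (f * p) ∣ 1 * 2 ^ 2 by simpa using hdvd))
  rw [Nat.dvd_one, orderOf_eq_one_iff] at h1
  exact hne (by rw [← mul_one f, ← sq_one hD.1 hp, ← mul_assoc, h1, one_mul])

end CfsgLib.Perm.OddTransposition
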