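import Cfsg.Agent.Lib.KnownC.AutPSU.Main
import Cfsg.Agent.Lib.LocalEven.UnitaryThree

/-!
# Commuting involutions and one more in `PSU₃(2^k)`

An involution of `SU₃` in characteristic two is a transvection, commuting ones have the same centre.
So commuting involutions together with one further involution fix a non-singular line and do not
generate `PSU₃`.
-/

set_option autoImplicit false
set_option linter.unusedSectionVars false

open Module CfsgLib.Classical CfsgLib.KnownC.AutPSU

namespace CfsgLib.Perm.OddTransposition.Unitary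

variable {F : Type*} [Field F] [CharP F 2] {V : Type*} [AddCommGroup V] [Module F V] {σ : F →+* F}
  {B : V →ₛₗ[σ] V →ₗ[F] F} [hB : UCtx B]

include hB

omit hB in
theorem add_self_zero {F : Type*} [Field F] [CharP F 2] [Module F V] (v : V) : v + v = 0 := by
  rw [← two_smul F v, CharTwo.two_eq_zero, zero_smul]

/-- A totally isotropic subspace of a three-dimensional space is a point. -/
theorem exists_smul_eq (h3 : finrank F V = 3) {r s : V} (hr0 : r ≠ 0) (hr : B r r = 0)
    (hs : B s s = 0) (hrs : B r s = 0) : ∃ t : F, s = t • r := by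
  haveI := hB.fin; haveI := hB.findim
  by_contra hall
  push Not at hall
  have hind : LinearIndependent F ![r, s] := by
    rw [LinearIndependent.pair_iff' hr0]
    exact fun a e => hall a e.symm
  have h2 : finrank F (Submodule.span F (Set.range ![r, s])) = 2 := by
    rw [finrank_span_eq_card hind, Fintype.card_fin]
  set W := Submodule.span F (Set.range ![r, s]) with hW
  have hle : W ≤ perp B W := by
    rw [hW, Submodule.span_le]
    rintro _ ⟨i, rfl⟩
    rw [SetLike.mem_coe, mem_perp]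
    intro w hw
    induction hw using Submodule.span_induction with
    | mem y hy =>
      obtain ⟨j, rfl⟩ := hy
      fin_cases i <;> fin_cases j <;> simp [hr, hs, hrs, form_refl (B := B) hrs]
    | zero => simp
    | add y z _ _ ihy ihz => rw [map_add, LinearMap.add_apply, ihy, ihz, add_zero]
    | smul a y _ ih => rw [map_smulₛₗ, LinearMap.smul_apply, ih, smul_zero]
  have := perp_finrank (B := B) W
  have := Submodule.finrank_mono hle
  omega

/-- An involution of `SU₃` in characteristic two is a transvection. -/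
theorem exists_centre (h3 : finrank F V = 3) {g : sIsom B} (hg : g * g = 1) (hg1 : g ≠ 1) :
    ∃ r : V, r ≠ 0 ∧ B r r = 0 ∧ (∀ z, ∃ t : F, g.1.1 z = z + t • r) ∧
      (∀ z, g.1.1 z = z ↔ B r z = 0) := by
  haveI := hB.fin; haveI := hB.findim
  have hgg : ∀ z, g.1.1 (g.1.1 z) = z := fun z => congrArg (fun k : sIsom B => k.1.1 z) hg
  have hiso : ∀ a b, B (g.1.1 a) (g.1.1 b) = B a b := fun a b => g.1.2 a b
  set N : V →ₗ[F] V := g.1.1.toLinearMap + LinearMap.id with hN
  have hNz : ∀ z, N z = g.1.1 z + z := fun z => rfl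
  have hNN : LinearMap.range N ≤ LinearMap.ker N := by
    rintro _ ⟨z, rfl⟩
    rw [LinearMap.mem_ker, hNz, hNz, map_add, hgg, add_comm (g.1.1 z) z, add_self_zero (F := F)]
  have hfix : ∀ z, g.1.1 z = z ↔ N z = 0 := fun z => by
    refine ⟨fun h => by rw [hNz, h, add_self_zero (F := F)], fun h => ?_⟩
    rw [hNz] at h
    calc g.1.1 z = g.1.1 z + (z + z) := by rw [add_self_zero (F := F), add_zero]
      _ = z := by rw [← add_assoc, h, zero_add]
  obtain ⟨z₀, hz₀⟩ : ∃ z₀, N z₀ ≠ 0 := by
    by_contra hall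
    push Not at hall
    exact hg1 (sisom_ext fun z => (hfix z).2 (hall z))
  set r := N z₀ with hr
  have hrng : ∀ z, ∃ t : F, N z = t • r := by
    have hdim := LinearMap.finrank_range_add_finrank_ker N
    have hmono := Submodule.finrank_mono hNN
    have h1 : finrank F (LinearMap.range N) = 1 := by
      have hpos : 0 < finrank F (LinearMap.range N) := Module.finrank_pos_iff_exists_ne_zero.2
        ⟨⟨r, ⟨z₀, rfl⟩⟩, fun e => hz₀ (congrArg Subtype.val e)⟩
      omega
    intro z
    obtain ⟨t, ht⟩ := (finrank_eq_one_iff_of_nonzero' (⟨r, ⟨z₀, rfl⟩⟩ : LinearMap.range N)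
      fun e => hz₀ (congrArg Subtype.val e)).1 h1 ⟨N z, ⟨z, rfl⟩⟩
    exact ⟨t, (congrArg Subtype.val ht).symm⟩
  have hrr : B r r = 0 := by
    have e : B z₀ (g.1.1 z₀) = B (g.1.1 z₀) z₀ := by
      conv_lhs => rw [← hiso, hgg]
    simp only [hr, hNz, map_add, LinearMap.add_apply, hiso, e]
    linear_combination (B z₀ z₀ + B (g.1.1 z₀) z₀) * CharTwo.two_eq_zero (R := F)
  have hperp : ∀ z, N z = 0 → B r z = 0 := by
    intro z hz
    rw [hr, hNz, map_add, LinearMap.add_apply]
    conv_lhs => arg 1; rw [← (hfix z).2 hz, hiso]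
    linear_combination B z₀ z * CharTwo.two_eq_zero (R := F)
  refine ⟨r, hz₀, hrr, fun z => ?_, fun z => ⟨fun h => hperp z ((hfix z).1 h), fun h => ?_⟩⟩
  · obtain ⟨t, ht⟩ := hrng z
    refine ⟨t, ?_⟩
    rw [← ht, hNz, add_comm (g.1.1 z) z, ← add_assoc, add_self_zero (F := F), zero_add]
  · obtain ⟨t, ht⟩ := hrng z
    rw [hfix, ht]
    suffices t = 0 by rw [this, zero_smul]
    by_contra ht0
    -- then the fixed space is too small
    have hker : LinearMap.ker N ≤ perp B (F ∙ r) := fun y hy => by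
      rw [mem_perp]
      intro w hw
      obtain ⟨a, rfl⟩ := Submodule.mem_span_singleton.1 hw
      rw [map_smulₛₗ, LinearMap.smul_apply, hperp y hy, smul_zero]
    have hlt : LinearMap.ker N < perp B (F ∙ r) := by
      refine lt_of_le_of_ne hker fun e => ?_
      have hz : z ∈ LinearMap.ker N := by
        rw [e, mem_perp]
        intro w hw
        obtain ⟨a, rfl⟩ := Submodule.mem_span_singleton.1 hw
        rw [map_smulₛₗ, LinearMap.smul_apply, h, smul_zero]
      rw [LinearMap.mem_ker, ht] at hz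
      exact ht0 ((smul_eq_zero.1 hz).resolve_right hz₀)
    have h4 := Submodule.finrank_lt_finrank_of_lt hlt
    have h5 := perp_finrank (B := B) (F ∙ r)
    rw [finrank_span_singleton hz₀, h3] at h5
    have h6 := LinearMap.finrank_range_add_finrank_ker N
    have h7 : finrank F (LinearMap.range N) ≤ 1 := by
      rw [← finrank_span_singleton (K := F) hz₀]
      refine Submodule.finrank_mono ?_
      rintro _ ⟨y, rfl⟩
      obtain ⟨t, ht⟩ := hrng y
      exact Submodule.mem_span_singleton.2 ⟨t, ht.symm⟩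
    omega

/-- What commutes with a transvection fixes its centre. -/
theorem maps_centre {g k : sIsom B} (hc : Commute g k) {r : V} (hg1 : g ≠ 1)
    (hgt : ∀ z, ∃ t : F, g.1.1 z = z + t • r) : ∃ a : F, k.1.1 r = a • r := by
  obtain ⟨z, hz⟩ : ∃ z, g.1.1 z ≠ z := by
    by_contra hall
    push Not at hall
    exact hg1 (sisom_ext hall)
  obtain ⟨t, ht⟩ := hgt z
  obtain ⟨u, hu⟩ := hgt (k.1.1 z)
  have ht0 : t ≠ 0 := fun e => hz (by rw [ht, e, zero_smul, add_zero])
  have e : g.1.1 (k.1.1 z) = k.1.1 (g.1.1 z) := congrArg (fun m : sIsom B => m.1.1 z) hc.eq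
  rw [ht, hu, map_add, map_smul, add_right_inj] at e
  exact ⟨t⁻¹ * u, by rw [mul_smul, e, inv_smul_smul₀ ht0]⟩

/-- Commuting involutions have the same centre. -/
theorem centre_eq (h3 : finrank F V = 3) {g h : sIsom B} (hh : h * h = 1) (hc : Commute g h)
    {r s : V} (hr0 : r ≠ 0) (hr : B r r = 0) (hg1 : g ≠ 1)
    (hgt : ∀ z, ∃ t : F, g.1.1 z = z + t • r) (hs : B s s = 0)
    (hhf : ∀ z, h.1.1 z = z ↔ B s z = 0) : ∃ t : F, s = t • r := by
  obtain ⟨a, hhr⟩ := maps_centre hc hg1 hgt
  have hhh : h.1.1 (h.1.1 r) = r := congrArg (fun k : sIsom B => k.1.1 r) hh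
  rw [hhr, map_smul, hhr, smul_smul] at hhh
  have h1 : a * a = 1 := smul_left_injective F hr0 (by simpa using hhh)
  have ha : a = 1 := by
    have h2 : (a + 1) * (a + 1) = 0 := by linear_combination h1 + (a + 1) * CharTwo.two_eq_zero (R := F)
    have h3 : a + 1 = 0 := mul_self_eq_zero.1 h2
    linear_combination h3 - CharTwo.two_eq_zero (R := F)
  rw [ha, one_smul] at hhr
  exact exists_smul_eq h3 hr0 hr hs (form_refl (B := B) ((hhf r).1 hhr))

/-- Commuting involutions and one further involution do not generate `PSU₃` in characteristic two. -/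
theorem closure_ne_top (h3 : finrank F V = 3) (S : Set (PG B)) (hS : ∀ a ∈ S, a * a = 1)
    (hcomm : ∀ a ∈ S, ∀ b ∈ S, Commute a b) {d x : PG B} (hd : d ∈ S) (hx : x * x = 1)
    (hdx : ¬ Commute d x) : Subgroup.closure (S ∪ {x}) ≠ ⊤ := by
  intro htop
  haveI := hB.fin; haveI := hB.findim
  have hlift : ∀ {a : PG B}, a * a = 1 → ∃ g : sIsom B, QuotientGroup.mk g = a ∧ g * g = 1 := by
    intro a ha
    obtain ⟨g, h1, h2⟩ := exists_lift (B := B) (p := 2) (x := a) (by rwa [pow_two])
    exact ⟨g, h1, by rwa [pow_two] at h2⟩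
  obtain ⟨g, rfl, hg⟩ := hlift (hS _ hd)
  obtain ⟨h, rfl, hh⟩ := hlift hx
  have hne : ∀ {k : sIsom B}, k = 1 → ∀ l : PG B, Commute (QuotientGroup.mk k) l := fun e l => by
    subst e; exact Commute.one_left l
  have hg1 : g ≠ 1 := fun e => hdx (hne e _)
  have hh1 : h ≠ 1 := fun e => hdx (hne e _).symm
  obtain ⟨r, hr0, hr, hgt, hgf⟩ := exists_centre h3 hg hg1
  obtain ⟨s, hs0, hs, hht, hhf⟩ := exists_centre h3 hh hh1
  -- a line fixed by all generators
  have hrs : B r s ≠ 0 := by
    intro e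
    obtain ⟨t, rfl⟩ := exists_smul_eq h3 hr0 hr hs e
    have ht : t ≠ 0 := fun e' => hs0 (by rw [e', zero_smul])
    have hff : ∀ z, h.1.1 z = z ↔ B r z = 0 := fun z => by
      rw [hhf, map_smulₛₗ, LinearMap.smul_apply, smul_eq_zero]
      exact or_iff_right ((map_ne_zero σ).2 ht)
    apply hdx
    have hc : Commute g h := by
      refine sisom_ext fun z => ?_
      show g.1.1 (h.1.1 z) = h.1.1 (g.1.1 z)
      obtain ⟨a, ha⟩ := hgt z
      obtain ⟨b, hb⟩ := hht z
      simp only [hb, map_add, map_smul, ha, (hgf r).2 hr, (hff r).2 hr]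
      abel
    exact hc.map (QuotientGroup.mk' (Subgroup.center (sIsom B)))
  have hind : LinearIndependent F ![r, s] := by
    rw [LinearIndependent.pair_iff' hr0]
    intro a e
    exact hrs (by rw [← e, map_smul, hr, smul_zero])
  set W := Submodule.span F (Set.range ![r, s]) with hW
  have hW1 : finrank F (perp B W) = 1 := by
    have h1 := perp_finrank (B := B) W
    have h2 : finrank F W = 2 := by rw [hW, finrank_span_eq_card hind, Fintype.card_fin]
    omega
  obtain ⟨v, hv, hv0⟩ : ∃ v ∈ perp B W, v ≠ 0 := by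
    refine Submodule.exists_mem_ne_zero_of_ne_bot fun e => ?_
    rw [e, finrank_bot] at hW1
    exact zero_ne_one hW1
  have hrv : B r v = 0 := (mem_perp.1 hv) r (Submodule.subset_span ⟨0, rfl⟩)
  have hsv : B s v = 0 := (mem_perp.1 hv) s (Submodule.subset_span ⟨1, rfl⟩)
  have hvv : B v v ≠ 0 := by
    intro e
    obtain ⟨t, rfl⟩ := exists_smul_eq h3 hr0 hr e hrv
    rw [map_smul, smul_eq_mul] at hsv
    have ht : t ≠ 0 := fun e' => hv0 (by rw [e', zero_smul])
    exact hrs (form_refl (B := B) ((mul_eq_zero.1 hsv).resolve_left ht))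
  -- the stabiliser of the line
  let L : Subgroup (sIsom B) :=
    { carrier := {k | ∃ a : F, k.1.1 v = a • v}
      one_mem' := ⟨1, (one_smul F v).symm⟩
      mul_mem' := by
        rintro k l ⟨a, ha⟩ ⟨b, hb⟩
        refine ⟨b * a, ?_⟩
        show k.1.1 (l.1.1 v) = _
        rw [hb, map_smul, ha, smul_smul]
      inv_mem' := by
        rintro k ⟨a, ha⟩
        have ha0 : a ≠ 0 := fun e => hv0 (k.1.1.injective (by rw [ha, e, zero_smul, map_zero]))
        refine ⟨a⁻¹, k.1.1.injective ?_⟩
        show k.1.1 ((k⁻¹ : sIsom B).1.1 v) = k.1.1 (a⁻¹ • v)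
        rw [map_smul, ha, inv_smul_smul₀ ha0]
        exact k.1.1.apply_symm_apply v }
  have hgen : Subgroup.closure (S ∪ {(QuotientGroup.mk h : PG B)}) ≤
      L.map (QuotientGroup.mk' (Subgroup.center (sIsom B))) := by
    rw [Subgroup.closure_le]
    rintro a (ha | ha)
    · obtain ⟨k, rfl, hk⟩ := hlift (hS a ha)
      by_cases hk1 : k = 1
      · exact ⟨1, one_mem L, by rw [hk1]; rfl⟩
      obtain ⟨r', -, hr', -, hkf⟩ := exists_centre h3 hk hk1
      have hgk : g * k = k * g :=
        LocalEven.UnitaryThree.lift_commute (B := B) (p := 2) (g := g) (u := k)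
          (by rw [show 2 * 2 = 2 + 2 from rfl, pow_add, pow_two, hk, one_mul]) (hcomm _ hd _ ha)
      obtain ⟨t, rfl⟩ := centre_eq h3 hk hgk hr0 hr hg1 hgt hr' hkf
      refine ⟨k, ⟨1, ?_⟩, rfl⟩
      rw [one_smul, hkf, map_smulₛₗ, LinearMap.smul_apply, hrv, smul_zero]
    · rw [Set.mem_singleton_iff] at ha
      subst ha
      exact ⟨h, ⟨1, by rw [one_smul, hhf]; exact hsv⟩, rfl⟩
  rw [htop] at hgen
  -- a root element moving the line
  obtain ⟨c, hc⟩ := hB.herm.conj.exists_trace_eq (a := -B v v) (by rw [map_neg, hB.herm.self_fixed])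
  have hrad : RadCond B r v c := ⟨hr, hrv, by rw [hc, neg_add_cancel]⟩
  obtain ⟨k, ⟨a, ha⟩, hke⟩ := hgen (Subgroup.mem_top (QuotientGroup.mk (uzE B r v c) : PG B))
  obtain ⟨z, hz, hkz⟩ : ∃ z ∈ Subgroup.center (sIsom B), uzE B r v c = k * z :=
    ⟨k⁻¹ * uzE B r v c, QuotientGroup.eq.1 hke, (mul_inv_cancel_left _ _).symm⟩
  obtain ⟨b, hb⟩ : ∃ b : F, z.1.1 v = b • v := by
    obtain ⟨a₁, ha₁⟩ := maps_centre (g := g) (k := z) (Subgroup.mem_center_iff.1 hz g) hg1 hgt
    obtain ⟨a₂, ha₂⟩ := maps_centre (g := h) (k := z) (Subgroup.mem_center_iff.1 hz h) hh1 hht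
    have hz0 : ∀ {y : V} {a : F}, z.1.1 y = a • y → y ≠ 0 → B y v = 0 → B y (z.1.1 v) = 0 := by
      intro y a hy hy0 hyv
      have ha0 : a ≠ 0 := fun e => hy0 (z.1.1.injective (by rw [hy, e, zero_smul, map_zero]))
      have h4 := z.1.2 y v
      rw [hy, map_smulₛₗ, LinearMap.smul_apply, hyv, smul_eq_zero] at h4
      exact h4.resolve_left ((map_ne_zero σ).2 ha0)
    have hzv : z.1.1 v ∈ perp B W := by
      rw [mem_perp]
      intro w hw
      induction hw using Submodule.span_induction with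
      | mem y hy =>
        obtain ⟨i, rfl⟩ := hy
        fin_cases i
        · exact hz0 ha₁ hr0 hrv
        · exact hz0 ha₂ hs0 hsv
      | zero => simp
      | add p q _ _ ihp ihq => rw [map_add, LinearMap.add_apply, ihp, ihq, add_zero]
      | smul e p _ ih => rw [map_smulₛₗ, LinearMap.smul_apply, ih, smul_zero]
    obtain ⟨b, hb⟩ := (finrank_eq_one_iff_of_nonzero' (⟨v, hv⟩ : perp B W)
      fun e => hv0 (congrArg Subtype.val e)).1 hW1 ⟨_, hzv⟩
    exact ⟨b, (congrArg Subtype.val hb).symm⟩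
  have hkv : (uzE B r v c).1.1 v = a • (b • v) := by
    rw [hkz]
    show k.1.1 (z.1.1 v) = _
    rw [hb, map_smul, ha, smul_comm]
  rw [uzE_apply hrad, hrv, zero_smul, add_zero, mul_zero, zero_sub, smul_smul, neg_smul] at hkv
  have h1 := congrArg (fun y => B v y) hkv
  simp only [map_add, map_neg, map_smul, smul_eq_mul, form_refl (B := B) hrv, mul_zero, neg_zero,
    add_zero] at h1
  have hab : a * b = 1 := mul_right_cancel₀ hvv (by rw [one_mul]; exact h1.symm)
  rw [hab, one_smul, add_eq_left, neg_eq_zero, smul_eq_zero] at hkv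
  exact hkv.elim hvv hr0

end CfsgLib.Perm.OddTransposition.Unitary
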